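import Groth.Agent.S8365

/-!
Elementary facts on `LieS.Lie`: additivity of the scalar action, uniqueness along `mulMap`,
and commutation with points after base change.
-/

set_option autoImplicit false
universe u

open CategoryTheory MonoidalCategory CartesianMonoidalCategory AlgebraicGeometry
open scoped MonObj
open TrivSqZeroExt (map)
open Groth.Agent.S8365 (hom_ext_of_pair inMap outMap selfMap out_in selfMap_id selfMap_zero twoPt_ext)

namespace Groth.Agent.LieSLib

noncomputable section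

variable {S : Scheme.{u}} {G : Over S} [GrpObj G] {B : Type u} [CommRing B]
    {f : Spec (CommRingCat.of B) ⟶ S}

theorem selfMap_smul (b : B) : selfMap f (b • (LinearMap.id : B →ₗ[B] B)) = LieS.scale B f b := by
  refine Over.OverMorphism.ext ?_
  change Spec.map _ = Spec.map _
  congr 2
  refine RingHom.ext fun z => TrivSqZeroExt.ext ?_ ?_ <;>
    simp [LieS.scaleHom, TrivSqZeroExt.algebraMap_eq_inl', mul_comm]

/-- The scalar action as maps of points. -/
theorem selfMap_comp_val (l : B →ₗ[B] B) (v : LieS.Lie G B f) :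
    selfMap f l ≫ v.1 = ((l 1) • v : LieS.Lie G B f).1 := by
  have hl : l = l 1 • (LinearMap.id : B →ₗ[B] B) := LinearMap.ext_ring (by simp)
  conv_lhs => rw [hl, selfMap_smul]
  rfl

theorem selfMap_zero_comp (v : LieS.Lie G B f) : selfMap f (0 : B →ₗ[B] B) ≫ v.1 = 1 := by
  rw [selfMap_zero, Category.assoc, (LieS.mem_Lie_iff G B f v.1).1 v.2, MonObj.comp_one]

theorem add_smul (a b : B) (v : LieS.Lie G B f) :
    ((a + b) • v : LieS.Lie G B f) = (a • v : LieS.Lie G B f) * (b • v : LieS.Lie G B f) := by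
  let i₁ := LinearMap.inl B B B
  let i₂ := LinearMap.inr B B B
  have h : inMap f (i₁ + i₂) ≫ v.1 = (inMap f i₁ ≫ v.1) * (inMap f i₂ ≫ v.1) := by
    refine twoPt_ext f _ _ ?_ ?_
    · rw [MonObj.comp_mul]
      simp only [← Category.assoc, out_in]
      rw [show LinearMap.fst B B B ∘ₗ (i₁ + i₂) = LinearMap.id by ext; simp [i₁, i₂],
        show LinearMap.fst B B B ∘ₗ i₁ = LinearMap.id by ext; simp [i₁],
        show LinearMap.fst B B B ∘ₗ i₂ = 0 by ext; simp [i₂], selfMap_zero_comp]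
      exact (_root_.mul_one _).symm
    · rw [MonObj.comp_mul]
      simp only [← Category.assoc, out_in]
      rw [show LinearMap.snd B B B ∘ₗ (i₁ + i₂) = LinearMap.id by ext; simp [i₁, i₂],
        show LinearMap.snd B B B ∘ₗ i₁ = 0 by ext; simp [i₁],
        show LinearMap.snd B B B ∘ₗ i₂ = LinearMap.id by ext; simp [i₂], selfMap_zero_comp]
      exact (_root_.one_mul _).symm
  let d : B × B →ₗ[B] B := LinearMap.coprod (a • LinearMap.id) (b • LinearMap.id)
  have h' := congrArg (fun z => outMap f d ≫ z) h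
  simp only [MonObj.comp_mul, ← Category.assoc, out_in, selfMap_comp_val] at h'
  rw [show (d ∘ₗ (i₁ + i₂)) 1 = a + b by simp [d, i₁, i₂],
    show (d ∘ₗ i₁) 1 = a by simp [d, i₁], show (d ∘ₗ i₂) 1 = b by simp [d, i₂]] at h'
  exact Subtype.ext h'

theorem one_smul (v : LieS.Lie G B f) : ((1 : B) • v : LieS.Lie G B f) = v := by
  refine Subtype.ext ?_
  have h := selfMap_comp_val (LinearMap.id : B →ₗ[B] B) v
  rw [LinearMap.id_apply] at h
  rw [← h, selfMap_id, Category.id_comp]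

theorem zero_smul (v : LieS.Lie G B f) : ((0 : B) • v : LieS.Lie G B f) = 1 := by
  refine Subtype.ext ?_
  have h := selfMap_comp_val (0 : B →ₗ[B] B) v
  rw [LinearMap.zero_apply] at h
  rw [← h, selfMap_zero_comp]
  rfl

theorem zpow_eq_smul (v : LieS.Lie G B f) (n : ℤ) : v ^ n = ((n : B) • v : LieS.Lie G B f) := by
  let φ : Multiplicative B →* LieS.Lie G B f :=
    { toFun := fun b => Multiplicative.toAdd b • v
      map_one' := zero_smul v
      map_mul' := fun a b => add_smul _ _ v }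
  have h := map_zpow φ (Multiplicative.ofAdd (1 : B)) n
  rw [show φ (Multiplicative.ofAdd (1 : B)) = v from one_smul v, ← ofAdd_zsmul, zsmul_one] at h
  exact h.symm

theorem lie_ext_of_ringHom (z z' : LieS.dpt B f ⟶ G) {E : Type u} [CommRing E]
    (m : DualNumber B →+* E) (hm : ∀ x, TrivSqZeroExt.fst x = 0 → m x = 0 → x = 0)
    (h₁ : Spec.map (CommRingCat.ofHom (TrivSqZeroExt.fstHom B B B).toRingHom) ≫ z.left =
      Spec.map (CommRingCat.ofHom (TrivSqZeroExt.fstHom B B B).toRingHom) ≫ z'.left)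
    (h₂ : Spec.map (CommRingCat.ofHom m) ≫ z.left = Spec.map (CommRingCat.ofHom m) ≫ z'.left) :
    z = z' := by
  refine Over.OverMorphism.ext (hom_ext_of_pair (TrivSqZeroExt.fstHom B B B).toRingHom m (fun x hx hx' => hm x hx hx') ?_ ?_ _ _ h₁ h₂)
  · exact fun b => ⟨(TrivSqZeroExt.inl b : DualNumber B), TrivSqZeroExt.fst_inl (M := B) b⟩
  · intro x hx
    have h0 : x.fst = 0 := hx
    exact ⟨2, by rw [pow_two]; exact TrivSqZeroExt.ext (by simp [h0]) (by simp [h0])⟩

theorem mulMap_cancel (z z' : LieS.Lie G B f)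
    (h : LieS.mulMap B f ≫ z.1 = LieS.mulMap B f ≫ z'.1) : z = z' := by
  have h0 : LieS.zeroSec B f ≫ z.1 = LieS.zeroSec B f ≫ z'.1 :=
    ((LieS.mem_Lie_iff G B f _).1 z.2).trans ((LieS.mem_Lie_iff G B f _).1 z'.2).symm
  have hl0 := congrArg Over.Hom.left h0
  have hl := congrArg Over.Hom.left h
  rw [Over.comp_left, Over.comp_left] at hl0 hl
  have key := lie_ext_of_ringHom (E := LieS.D2 B) z.1 z'.1 (LieS.mulHom B)
  refine Subtype.ext (key ?_ hl0 ?_)
  swap
  · exact hl
  intro x hx hx'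
  have h2 := congrArg TrivSqZeroExt.snd (congrArg TrivSqZeroExt.snd hx')
  simp [LieS.mulHom, LieS.toD2, TrivSqZeroExt.algebraMap_eq_inl'] at h2
  exact TrivSqZeroExt.ext hx h2

/-- The affine case of `commute_of_Ad`. -/
theorem commute_of_Ad_affine {K : Over S} [GrpObj K] (i : K ⟶ G) (x : LieS.Lie G B f)
    (H : ∀ (B' : Type u) [CommRing B'] (h : B →+* B')
      (k : LieS.pt B' (Spec.map (CommRingCat.ofHom h) ≫ f) ⟶ K),
      LieS.Ad G B' (Spec.map (CommRingCat.ofHom h) ≫ f) (k ≫ i) (LieS.pull G f h x) = LieS.pull G f h x)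
    (C : Type u) [CommRing C] (f'' : Spec (CommRingCat.of C) ⟶ S)
    (y : LieS.pt C f'' ⟶ LieS.dpt B f) (h : LieS.pt C f'' ⟶ K) :
    (y ≫ x.1) * (h ≫ i) = (h ≫ i) * (y ≫ x.1) := by
  obtain ⟨φ, hφ⟩ := Spec.map_surjective (R := CommRingCat.of (DualNumber B)) (S := CommRingCat.of C) y.left
  let φ' : DualNumber B →+* C := φ.hom
  let g : B →+* C := φ'.comp (algebraMap B (DualNumber B))
  have hf : f'' = Spec.map (CommRingCat.ofHom g) ≫ f := by
    refine (Over.w y).symm.trans ?_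
    rw [← hφ]
    change Spec.map φ ≫ Spec.map _ ≫ f = Spec.map _ ≫ f
    rw [← Category.assoc, ← Spec.map_comp]
    rfl
  subst hf
  let f' := Spec.map (CommRingCat.ofHom g) ≫ f
  let c : C := φ' DualNumber.eps
  have hc : c * c = 0 := by rw [← map_mul, LieS.eps_sq, map_zero]
  let σ : LieS.pt C f' ⟶ LieS.dpt C f' :=
    Over.homMk (Spec.map (CommRingCat.ofHom (LieS.dualHom (RingHom.id C) c hc))) (by
      change Spec.map _ ≫ Spec.map _ ≫ f' = f'
      rw [← Category.assoc, LieS.specMap_comp, LieS.dualHom_comp_algebraMap, CommRingCat.ofHom_id]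
      erw [Spec.map_id]; exact Category.id_comp f')
  have h1 : σ ≫ LieS.proj C f' = 𝟙 _ := by
    refine Over.OverMorphism.ext ?_
    change Spec.map _ ≫ Spec.map _ = 𝟙 _
    rw [LieS.specMap_comp, LieS.dualHom_comp_algebraMap, CommRingCat.ofHom_id]
    exact Spec.map_id _
  have h2 : σ ≫ LieS.dptMap f g = y := by
    refine Over.OverMorphism.ext ?_
    change Spec.map _ ≫ Spec.map _ = y.left
    rw [LieS.specMap_comp]
    refine Eq.trans ?_ hφ
    change Spec.map (CommRingCat.ofHom _) = Spec.map (CommRingCat.ofHom φ')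
    congr 2
    refine RingHom.ext fun z => ?_
    have hz : z = algebraMap B (DualNumber B) z.fst + algebraMap B (DualNumber B) z.snd * DualNumber.eps :=
      TrivSqZeroExt.ext (by simp [TrivSqZeroExt.algebraMap_eq_inl']) (by simp [TrivSqZeroExt.algebraMap_eq_inl'])
    conv_rhs => rw [hz, map_add, map_mul]
    simp [LieS.bcHom, TrivSqZeroExt.algebraMap_eq_inl', g, c]
  have h3 := congrArg Subtype.val (H C g h)
  change (LieS.proj C f' ≫ h ≫ i) * (LieS.dptMap f g ≫ x.1) *
      (LieS.proj C f' ≫ h ≫ i)⁻¹ = LieS.dptMap f g ≫ x.1 at h3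
  have h4 := congrArg (fun z => σ ≫ z) (mul_inv_eq_iff_eq_mul.1 h3)
  simp only [MonObj.comp_mul] at h4
  rw [← Category.assoc σ, h1, Category.id_comp, ← Category.assoc σ, h2] at h4
  exact h4.symm

/-- Commutation of a tangent point with points of a subgroup may be tested after base change. -/
theorem commute_of_Ad {K : Over S} [GrpObj K] (i : K ⟶ G) (x : LieS.Lie G B f)
    (H : ∀ (B' : Type u) [CommRing B'] (h : B →+* B')
      (k : LieS.pt B' (Spec.map (CommRingCat.ofHom h) ≫ f) ⟶ K),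
      LieS.Ad G B' (Spec.map (CommRingCat.ofHom h) ≫ f) (k ≫ i) (LieS.pull G f h x) = LieS.pull G f h x)
    (X' : Over S) (y : X' ⟶ LieS.dpt B f) (h : X' ⟶ K) :
    (y ≫ x.1) * (h ≫ i) = (h ≫ i) * (y ≫ x.1) := by
  refine Over.OverMorphism.ext (X'.left.affineOpenCover.openCover.hom_ext _ _ fun j => ?_)
  let C : Type u := ↑(X'.left.affineOpenCover.X j)
  let u : Spec (CommRingCat.of C) ⟶ X'.left := X'.left.affineOpenCover.f j
  let jj : LieS.pt C (u ≫ X'.hom) ⟶ X' := Over.homMk u rfl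
  change (jj ≫ ((y ≫ x.1) * (h ≫ i))).left = (jj ≫ ((h ≫ i) * (y ≫ x.1))).left
  refine congrArg CommaMorphism.left ?_
  simp only [MonObj.comp_mul, ← Category.assoc]
  exact commute_of_Ad_affine i x H C _ (jj ≫ y) (jj ≫ h)

theorem Ad_of_commute {K : Over S} [GrpObj K] (i : K ⟶ G) (x : LieS.Lie G B f)
    (H : ∀ (X' : Over S) (y : X' ⟶ LieS.dpt B f) (h : X' ⟶ K),
      (y ≫ x.1) * (h ≫ i) = (h ≫ i) * (y ≫ x.1))
    (B' : Type u) [CommRing B'] (h : B →+* B')
    (k : LieS.pt B' (Spec.map (CommRingCat.ofHom h) ≫ f) ⟶ K) :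
    LieS.Ad G B' (Spec.map (CommRingCat.ofHom h) ≫ f) (k ≫ i) (LieS.pull G f h x) = LieS.pull G f h x := by
  refine Subtype.ext ?_
  change (LieS.proj B' _ ≫ k ≫ i) * (LieS.dptMap f h ≫ x.1) * (LieS.proj B' _ ≫ k ≫ i)⁻¹ =
    LieS.dptMap f h ≫ x.1
  rw [mul_inv_eq_iff_eq_mul]
  have h1 := (H _ (LieS.dptMap f h) (LieS.proj B' _ ≫ k)).symm
  simpa only [Category.assoc] using h1

theorem map_exact {G' G'' : Over S} [GrpObj G'] [GrpObj G'']
    (i : G' ⟶ G) [IsMonHom i] (q : G ⟶ G'') [IsMonHom q]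
    (hex : ∀ T : Over S, Function.Injective (fun a : T ⟶ G' => a ≫ i) ∧
      Function.Surjective (fun b : T ⟶ G => b ≫ q) ∧ ∀ b : T ⟶ G, b ≫ q = 1 ↔ ∃ a : T ⟶ G', a ≫ i = b) :
    Function.Injective (LieS.map B f i) ∧ Function.Surjective (LieS.map B f q) ∧
      ∀ v : LieS.Lie G B f, LieS.map B f q v = 1 ↔ ∃ w : LieS.Lie G' B f, LieS.map B f i w = v := by
  refine ⟨fun a b h => Subtype.ext ((hex _).1 (congrArg Subtype.val h)), fun v => ?_, fun v => ?_⟩
  · obtain ⟨b, hb⟩ := (hex _).2.1 v.1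
    let c : LieS.dpt B f ⟶ G := LieS.proj B f ≫ LieS.zeroSec B f ≫ b
    have hcq : c ≫ q = 1 := by
      simp only [c, Category.assoc]
      rw [show b ≫ q = v.1 from hb, (LieS.mem_Lie_iff G'' B f _).1 v.2, MonObj.comp_one]
    refine ⟨⟨b * c⁻¹, ?_⟩, Subtype.ext ?_⟩
    · rw [LieS.mem_Lie_iff, MonObj.comp_mul, GrpObj.comp_inv]
      rw [show LieS.zeroSec B f ≫ c = LieS.zeroSec B f ≫ b by
        simp only [c, ← Category.assoc, LieS.zeroSec_proj, Category.id_comp], mul_inv_cancel]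
    · change IsMonHom.monoidHom q (LieS.dpt B f) (b * c⁻¹) = v.1
      rw [map_mul, map_inv, show IsMonHom.monoidHom q (LieS.dpt B f) c = 1 from hcq, inv_one,
        _root_.mul_one]
      exact hb
  · constructor
    · intro hv
      obtain ⟨a, ha⟩ := ((hex _).2.2 v.1).1 (congrArg Subtype.val hv)
      refine ⟨⟨a, ?_⟩, Subtype.ext ha⟩
      rw [LieS.mem_Lie_iff]
      refine (hex _).1 ?_
      change (LieS.zeroSec B f ≫ a) ≫ i = (1 : LieS.pt B f ⟶ G') ≫ i
      rw [Category.assoc, ha, (LieS.mem_Lie_iff G B f _).1 v.2]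
      exact (IsMonHom.monoidHom i (LieS.pt B f)).map_one.symm
    · rintro ⟨w, rfl⟩
      exact Subtype.ext (((hex _).2.2 _).2 ⟨w.1, rfl⟩)

end

end Groth.Agent.LieSLib
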