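import Groth.Prelude.Def_LieS
import Groth.Prelude.Def_Red

/-!
The Lie algebra of a diagonalisable group: points with values in the dual numbers are additive maps.
-/

set_option autoImplicit false
universe u

open CategoryTheory MonoidalCategory CartesianMonoidalCategory MonObj GrpObj AlgebraicGeometry
open LieS WithConv

namespace Groth.Agent.LieSLib.Diag

noncomputable section

variable {R : Type u} [CommRing R] {M : Type} [AddCommGroup M] {B : Type u} [CommRing B] [Algebra R B]

/-- The group ring. -/
abbrev A (R : Type u) [CommRing R] (M : Type) [AddCommGroup M] : Type u :=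
  MonoidAlgebra R (Multiplicative M)

/-- Spec of `B` over `Spec R`, two ways. -/
def ptIso (R : Type u) [CommRing R] (B : Type u) [CommRing B] [Algebra R B] :
    (Spec (CommRingCat.of B)).asOver (Spec (CommRingCat.of R)) ≅
      LieS.pt B (Spec.map (CommRingCat.ofHom (algebraMap R B))) :=
  Over.isoMk (Iso.refl (Spec (CommRingCat.of B))) (Category.id_comp _)

theorem mapMulEquiv_left {T : Type u} [CommRing T] [Algebra R T] (φ : WithConv (A R M →ₐ[R] T)) :
    (Spec.mapMulEquiv φ).left = Spec.map (CommRingCat.ofHom φ.ofConv.toRingHom) := rfl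

/-- Dual-number points as algebra maps. -/
def E : (LieS.dpt B (Spec.map (CommRingCat.ofHom (algebraMap R B))) ⟶ Red.diag R M) ≃*
    WithConv (A R M →ₐ[R] DualNumber B) :=
  ({ toFun := fun v => (LieS.dptIso B).inv ≫ v
     invFun := fun w => (LieS.dptIso B).hom ≫ w
     left_inv := fun v => Iso.hom_inv_id_assoc _ v
     right_inv := fun w => Iso.inv_hom_id_assoc _ w
     map_mul' := fun v w => MonObj.comp_mul _ _ _ } :
    (LieS.dpt B (Spec.map (CommRingCat.ofHom (algebraMap R B))) ⟶ Red.diag R M) ≃*
      ((Spec (CommRingCat.of (DualNumber B))).asOver (Spec (CommRingCat.of R)) ⟶ Red.diag R M)).trans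
    Spec.mapMulEquiv.symm

theorem left_eq (v : LieS.dpt B (Spec.map (CommRingCat.ofHom (algebraMap R B))) ⟶ Red.diag R M) :
    v.left = Spec.map (CommRingCat.ofHom (E v).ofConv.toRingHom) := by
  have h : Spec.mapMulEquiv (E v) = (LieS.dptIso B).inv ≫ v := Spec.mapMulEquiv.apply_symm_apply _
  have h' := congrArg Over.Hom.left h
  rw [mapMulEquiv_left, Over.comp_left] at h'
  rw [h']
  exact (Category.id_comp _).symm

theorem mul_single {T : Type u} [CommRing T] [Algebra R T] (φ ψ : WithConv (A R M →ₐ[R] T))
    (g : Multiplicative M) :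
    (φ * ψ).ofConv (MonoidAlgebra.single g 1) =
      φ.ofConv (MonoidAlgebra.single g 1) * ψ.ofConv (MonoidAlgebra.single g 1) := by
  change (φ * ψ) (MonoidAlgebra.single g 1) = _
  simp [AlgHom.convMul_apply]

theorem one_single {T : Type u} [CommRing T] [Algebra R T] (g : Multiplicative M) :
    (1 : WithConv (A R M →ₐ[R] T)).ofConv (MonoidAlgebra.single g 1) = 1 := by
  change (1 : WithConv (A R M →ₐ[R] T)) (MonoidAlgebra.single g 1) = 1
  simp [AlgHom.convOne_apply]

theorem mem_Lie_iff' (v : LieS.dpt B (Spec.map (CommRingCat.ofHom (algebraMap R B))) ⟶ Red.diag R M) :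
    v ∈ LieS.LieR (Red.diag R M) B ↔
      ∀ g : Multiplicative M, TrivSqZeroExt.fst ((E v).ofConv (MonoidAlgebra.single g 1)) = (1 : B) := by
  let φ₀ : WithConv (A R M →ₐ[R] B) :=
    toConv (((TrivSqZeroExt.fstHom B B B).restrictScalars R).comp (E v).ofConv)
  have h1 : (ptIso R B).hom ≫ LieS.zeroSec B _ ≫ v = Spec.mapMulEquiv φ₀ := by
    refine Over.OverMorphism.ext ?_
    rw [mapMulEquiv_left, Over.comp_left, Over.comp_left, left_eq]
    change 𝟙 _ ≫ Spec.map _ ≫ Spec.map _ = _
    rw [Category.id_comp, LieS.specMap_comp]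
    rfl
  have h2 : LieS.zeroSec B _ ≫ v = 1 ↔ φ₀ = 1 := by
    have e1 : Spec.mapMulEquiv (1 : WithConv (A R M →ₐ[R] B)) =
        (ptIso R B).hom ≫ (1 : LieS.pt B _ ⟶ Red.diag R M) :=
      (map_one _).trans (MonObj.comp_one (ptIso R B).hom).symm
    constructor
    · intro h
      refine (Spec.mapMulEquiv (R := R) (S := A R M) (T := B)).injective ?_
      rw [← h1, e1, h]
    · intro h
      refine (cancel_epi (ptIso R B).hom).1 ?_
      rw [h1, h]
      exact e1
  rw [LieS.mem_Lie_iff, h2]
  constructor
  · intro h g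
    have := congrArg (fun φ : WithConv (A R M →ₐ[R] B) => φ.ofConv (MonoidAlgebra.single g 1)) h
    rw [one_single] at this
    exact this
  · intro h
    apply WithConv.ofConv_injective
    apply MonoidAlgebra.algHom_ext
    case single_one_left => exact Subsingleton.elim _ _
    intro g
    show φ₀.ofConv (MonoidAlgebra.single g 1) = (1 : WithConv (A R M →ₐ[R] B)).ofConv (MonoidAlgebra.single g 1)
    rw [one_single]
    exact h g

/-- The ε-coefficient, as an additive map. -/
def toHom (v : LieS.LieR (Red.diag R M) B) : M →+ B :=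
  AddMonoidHom.mk' (fun m => TrivSqZeroExt.snd ((E v.1).ofConv (MonoidAlgebra.single (Multiplicative.ofAdd m) 1)))
    fun a b => by
      rw [show MonoidAlgebra.single (Multiplicative.ofAdd (a + b)) (1 : R) =
          MonoidAlgebra.single (Multiplicative.ofAdd a) 1 * MonoidAlgebra.single (Multiplicative.ofAdd b) 1 by
        rw [MonoidAlgebra.single_mul_single, _root_.one_mul, ofAdd_add], map_mul, DualNumber.snd_mul (R := B),
        (mem_Lie_iff' v.1).1 v.2, (mem_Lie_iff' v.1).1 v.2, _root_.one_mul, _root_.mul_one, add_comm]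

theorem toHom_injective : Function.Injective (toHom (R := R) (M := M) (B := B)) := by
  intro v w h
  refine Subtype.ext (E.injective (WithConv.ofConv_injective ?_))
  apply MonoidAlgebra.algHom_ext
  case single_one_left => exact Subsingleton.elim _ _
  intro g
  refine TrivSqZeroExt.ext ?_ ?_
  · exact ((mem_Lie_iff' v.1).1 v.2 g).trans ((mem_Lie_iff' w.1).1 w.2 g).symm
  · exact DFunLike.congr_fun h (Multiplicative.toAdd g)

theorem toHom_surjective : Function.Surjective (toHom (R := R) (M := M) (B := B)) := by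
  intro d
  let u : Multiplicative M →* DualNumber B :=
    { toFun := fun g => TrivSqZeroExt.inl 1 + TrivSqZeroExt.inr (d (Multiplicative.toAdd g))
      map_one' := TrivSqZeroExt.ext (by simp) (by simp)
      map_mul' := fun a b => TrivSqZeroExt.ext (by simp) (by simp [DualNumber.snd_mul, add_comm]) }
  let φ : WithConv (A R M →ₐ[R] DualNumber B) := toConv (MonoidAlgebra.lift R (DualNumber B) _ u)
  have hu : ∀ g, φ.ofConv (MonoidAlgebra.single g 1) = u g := fun g => by
    simp [φ, MonoidAlgebra.lift_single]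
  have hE : E (E.symm φ) = φ := E.apply_symm_apply φ
  refine ⟨⟨E.symm φ, (mem_Lie_iff' _).2 fun g => ?_⟩, AddMonoidHom.ext fun m => ?_⟩
  · rw [hE, hu]; simp [u]
  · change TrivSqZeroExt.snd ((E (E.symm φ)).ofConv _) = _
    rw [hE, hu]; simp [u]

/-- `Lie(D(M))(B) ≅ Hom(M, B)`. -/
def lieEquiv : LieS.LieR (Red.diag R M) B ≃* Multiplicative (M →+ B) :=
  MulEquiv.ofBijective
    (MonoidHom.mk' (fun v => Multiplicative.ofAdd (toHom v)) fun v w => by
      refine congrArg Multiplicative.ofAdd (AddMonoidHom.ext fun m => ?_)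
      change TrivSqZeroExt.snd ((E (v.1 * w.1)).ofConv _) = toHom v m + toHom w m
      rw [map_mul, mul_single, DualNumber.snd_mul, (mem_Lie_iff' v.1).1 v.2, (mem_Lie_iff' w.1).1 w.2,
        _root_.one_mul, _root_.mul_one, add_comm]
      rfl)
    ⟨fun _ _ h => toHom_injective (Multiplicative.ofAdd.injective h),
      fun d => (toHom_surjective (Multiplicative.toAdd d)).imp fun _ h => congrArg Multiplicative.ofAdd h⟩

theorem toHom_smul (b : B) (v : LieS.LieR (Red.diag R M) B) : toHom (b • v) = b • toHom v := by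
  refine AddMonoidHom.ext fun m => ?_
  have h : (E (b • v).1).ofConv.toRingHom = (LieS.scaleHom b).comp (E v.1).ofConv.toRingHom := by
    have h1 := left_eq (b • v).1
    rw [LieS.smul_val, Over.comp_left, left_eq] at h1
    change Spec.map (CommRingCat.ofHom (LieS.scaleHom b)) ≫ Spec.map _ = _ at h1
    rw [LieS.specMap_comp] at h1
    exact (congrArg CommRingCat.Hom.hom (Spec.map_injective h1)).symm
  change TrivSqZeroExt.snd ((E (b • v).1).ofConv.toRingHom _) = b * toHom v m
  rw [h]
  simp [LieS.scaleHom, TrivSqZeroExt.algebraMap_eq_inl', toHom, mul_comm]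

end

end Groth.Agent.LieSLib.Diag
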